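import Groth.Agent.Lib.Goren.LocalDuality27
import Groth.Agent.Lib.InjHull.Matlis
import Groth.Agent.Lib.LocCoh.Torsion
import Groth.Agent.Lib.RegLoc.GlobalDim
import Groth.Agent.S0342
import Groth.Agent.S0563
import Mathlib

/-!
# `length Hom(I, R/J)` for ideals of finite colength in a two-dimensional regular local ring
-/

set_option autoImplicit false
set_option linter.style.haveILetI false

universe u

open CategoryTheory IsLocalRing TensorProduct

noncomputable section

namespace HomColon29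

variable {R : Type u} [CommRing R] [IsRegularLocalRing R]

/-- a free presentation of a nonzero ideal in dimension two -/
lemma exists_syzygy (hdim : ringKrullDim R = 2) (I : Ideal R) :
    ∃ (a : ℕ) (π : (Fin a → R) →ₗ[R] I), Function.Surjective π ∧ Module.Free R (LinearMap.ker π) := by
  obtain ⟨a, π, hπ⟩ := Module.Finite.exists_fin' R I
  refine ⟨a, π, hπ, ?_⟩
  let S₁ : ShortComplex (ModuleCat.{u} R) :=
    ShortComplex.mk (ModuleCat.ofHom I.subtype) (ModuleCat.ofHom (Submodule.mkQ I)) (by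
      ext x; exact (Submodule.Quotient.mk_eq_zero I).2 x.2)
  have hS₁ : S₁.ShortExact :=
    { exact := (ShortComplex.moduleCat_exact_iff S₁).2 fun x hx => ⟨⟨x, (Submodule.Quotient.mk_eq_zero I).1 hx⟩, rfl⟩
      mono_f := (ModuleCat.mono_iff_injective _).2 Subtype.val_injective
      epi_g := (ModuleCat.epi_iff_surjective _).2 (Submodule.mkQ_surjective _) }
  haveI : HasProjectiveDimensionLT S₁.X₃ 3 :=
    Groth.Agent.S0563.result R 2 (by rw [hdim]; rfl) _
  haveI : Projective S₁.X₂ := (IsProjective.iff_projective R).1 inferInstance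
  have hI : HasProjectiveDimensionLT S₁.X₁ 2 :=
    hS₁.hasProjectiveDimensionLT_X₁ 2 (hasProjectiveDimensionLT_of_ge S₁.X₂ 1 2 (by omega)) inferInstance
  let S₂ : ShortComplex (ModuleCat.{u} R) :=
    ShortComplex.mk (ModuleCat.ofHom (LinearMap.ker π).subtype) (ModuleCat.ofHom π) (by ext x; exact congrArg Subtype.val x.2)
  have hS₂ : S₂.ShortExact :=
    { exact := (ShortComplex.moduleCat_exact_iff S₂).2 fun x hx => ⟨⟨x, hx⟩, rfl⟩
      mono_f := (ModuleCat.mono_iff_injective _).2 Subtype.val_injective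
      epi_g := (ModuleCat.epi_iff_surjective _).2 hπ }
  haveI : Projective S₂.X₂ := (IsProjective.iff_projective (Fin a → R)).1 inferInstance
  have hK : HasProjectiveDimensionLT S₂.X₁ 1 :=
    hS₂.hasProjectiveDimensionLT_X₁ 1 inferInstance hI
  have hKp : Projective (ModuleCat.of R (LinearMap.ker π)) := projective_iff_hasProjectiveDimensionLT_one.2 hK
  haveI : Module.Projective R (LinearMap.ker π) := (IsProjective.iff_projective _).2 hKp
  exact Module.free_of_flat_of_isLocalRing

section Duality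

variable {I : Ideal R} {a : ℕ} (π : (Fin a → R) →ₗ[R] I)

/-- restriction of functionals to the syzygies -/
abbrev res (N : Type u) [AddCommGroup N] [Module R N] :
    ((Fin a → R) →ₗ[R] N) →ₗ[R] (LinearMap.ker π →ₗ[R] N) :=
  LinearMap.lcomp R N (LinearMap.ker π).subtype

variable (hπ : Function.Surjective π)

include hπ in
lemma exists_ext_two_equiv :
    Nonempty (((LinearMap.ker π →ₗ[R] R) ⧸ LinearMap.range (res π R)) ≃ₗ[R]
      Abelian.Ext (ModuleCat.of R (R ⧸ I)) (ModuleCat.of R R) 2) := by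
  let S₁ : ShortComplex (ModuleCat.{u} R) :=
    ShortComplex.mk (ModuleCat.ofHom I.subtype) (ModuleCat.ofHom (Submodule.mkQ I)) (by
      ext x; exact (Submodule.Quotient.mk_eq_zero I).2 x.2)
  have hS₁ : S₁.ShortExact :=
    { exact := (ShortComplex.moduleCat_exact_iff S₁).2 fun x hx => ⟨⟨x, (Submodule.Quotient.mk_eq_zero I).1 hx⟩, rfl⟩
      mono_f := (ModuleCat.mono_iff_injective _).2 Subtype.val_injective
      epi_g := (ModuleCat.epi_iff_surjective _).2 (Submodule.mkQ_surjective _) }
  haveI : Projective S₁.X₂ := (IsProjective.iff_projective R).1 inferInstance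
  let S₂ : ShortComplex (ModuleCat.{u} R) :=
    ShortComplex.mk (ModuleCat.ofHom (LinearMap.ker π).subtype) (ModuleCat.ofHom π) (by ext x; exact congrArg Subtype.val x.2)
  have hS₂ : S₂.ShortExact :=
    { exact := (ShortComplex.moduleCat_exact_iff S₂).2 fun x hx => ⟨⟨x, hx⟩, rfl⟩
      mono_f := (ModuleCat.mono_iff_injective _).2 Subtype.val_injective
      epi_g := (ModuleCat.epi_iff_surjective _).2 hπ }
  haveI : Projective S₂.X₂ := (IsProjective.iff_projective (Fin a → R)).1 inferInstance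
  let Y := ModuleCat.of R R
  let Λ : (LinearMap.ker π →ₗ[R] R) →ₗ[R] Abelian.Ext (ModuleCat.of R (R ⧸ I)) Y 2 :=
    { toFun := fun φ => hS₁.extClass.comp (hS₂.extClass.comp (Abelian.Ext.mk₀ (ModuleCat.ofHom φ : S₂.X₁ ⟶ Y)) (add_zero 1)) (show 1 + 1 = 2 from rfl)
      map_add' := fun φ φ' => by
        rw [← Abelian.Ext.comp_add, ← Abelian.Ext.comp_add, ← Abelian.Ext.mk₀_add]
        rfl
      map_smul' := fun c φ => by
        rw [RingHom.id_apply, ← Abelian.Ext.comp_smul, ← Abelian.Ext.comp_smul, ← Abelian.Ext.mk₀_smul]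
        rfl }
  have hsurj : Function.Surjective Λ := fun x => by
    obtain ⟨y, hy⟩ := Abelian.Ext.contravariant_sequence_exact₃ hS₁ Y x
      (Abelian.Ext.eq_zero_of_projective _) (n₀ := 1) rfl
    obtain ⟨z, hz⟩ := Abelian.Ext.contravariant_sequence_exact₃ hS₂ Y y
      (Abelian.Ext.eq_zero_of_projective _) (n₀ := 0) rfl
    obtain ⟨φ, rfl⟩ := (Abelian.Ext.mk₀_bijective _ _).2 z
    exact ⟨φ.hom, by rw [← hy, ← hz]; rfl⟩
  have hker : LinearMap.ker Λ = LinearMap.range (res π R) := by
    ext φ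
    constructor
    · intro h
      have h1 : hS₂.extClass.comp (Abelian.Ext.mk₀ (ModuleCat.ofHom φ : S₂.X₁ ⟶ Y)) (add_zero 1) = 0 := by
        obtain ⟨x₂, hx₂⟩ := Abelian.Ext.contravariant_sequence_exact₁ hS₁ Y
          (hS₂.extClass.comp (Abelian.Ext.mk₀ (ModuleCat.ofHom φ : S₂.X₁ ⟶ Y)) (add_zero 1)) (n₁ := 2) rfl h
        rw [← hx₂, Abelian.Ext.eq_zero_of_projective x₂, Abelian.Ext.comp_zero]
      obtain ⟨ψ, hψ⟩ := Abelian.Ext.contravariant_sequence_exact₁ hS₂ Y _ (n₁ := 1) rfl h1
      obtain ⟨ψ, rfl⟩ := (Abelian.Ext.mk₀_bijective _ _).2 ψ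
      rw [Abelian.Ext.mk₀_comp_mk₀] at hψ
      exact ⟨ψ.hom, congrArg ModuleCat.Hom.hom ((Abelian.Ext.mk₀_bijective _ _).1 hψ)⟩
    · rintro ⟨ψ, rfl⟩
      show hS₁.extClass.comp (hS₂.extClass.comp _ (add_zero 1)) (show 1 + 1 = 2 from rfl) = 0
      have : (ModuleCat.ofHom (res π R ψ) : S₂.X₁ ⟶ Y) = S₂.f ≫ ModuleCat.ofHom ψ := rfl
      rw [this, ← Abelian.Ext.mk₀_comp_mk₀, hS₂.extClass_comp_assoc (h := add_zero 1), Abelian.Ext.comp_zero]
  exact ⟨(Submodule.quotEquivOfEq _ _ hker.symm).trans (Λ.quotKerEquivOfSurjective hsurj)⟩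

variable [Module.Free R (LinearMap.ker π)] (N : Type u) [AddCommGroup N] [Module R N]

/-- `Hom(F, R) ⊗ N = Hom(F, N)` -/
def evalTensor (F : Type u) [AddCommGroup F] [Module R F] [Module.Free R F] [Module.Finite R F] :
    ((F →ₗ[R] R) ⊗[R] N) ≃ₗ[R] (F →ₗ[R] N) :=
  dualTensorHomEquiv R F N

lemma exists_coker_equiv : Nonempty (((LinearMap.ker π →ₗ[R] N) ⧸ LinearMap.range (res π N)) ≃ₗ[R]
    ((LinearMap.ker π →ₗ[R] R) ⧸ LinearMap.range (res π R)) ⊗[R] N) := by
  let ω := (LinearMap.ker π →ₗ[R] R) ⧸ LinearMap.range (res π R)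
  let q : (LinearMap.ker π →ₗ[R] R) →ₗ[R] ω := (LinearMap.range (res π R)).mkQ
  have hex : Function.Exact ((res π R).rTensor N) (q.rTensor N) :=
    rTensor_exact N (LinearMap.exact_map_mkQ_range _) (Submodule.mkQ_surjective _)
  let eK := evalTensor (R := R) N (LinearMap.ker π)
  let eF := evalTensor (R := R) N (Fin a → R)
  have hnat : res π N ∘ₗ eF.toLinearMap = eK.toLinearMap ∘ₗ (res π R).rTensor N := by
    refine TensorProduct.ext' fun φ x => LinearMap.ext fun k => ?_
    simp [eK, eF, evalTensor]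
  let g : (LinearMap.ker π →ₗ[R] N) →ₗ[R] ω ⊗[R] N := (q.rTensor N).comp eK.symm.toLinearMap
  have hg : Function.Surjective g :=
    (LinearMap.rTensor_surjective N (Submodule.mkQ_surjective _)).comp eK.symm.surjective
  have hk : LinearMap.ker g = LinearMap.range (res π N) := by
    ext y
    rw [LinearMap.mem_ker, LinearMap.comp_apply, LinearEquiv.coe_coe, hex (eK.symm y)]
    constructor
    · rintro ⟨z, hz⟩
      refine ⟨eF z, ?_⟩
      have := LinearMap.congr_fun hnat z
      simp only [LinearMap.comp_apply, LinearEquiv.coe_coe] at this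
      rw [this, hz, LinearEquiv.apply_symm_apply]
    · rintro ⟨w, rfl⟩
      refine ⟨eF.symm w, ?_⟩
      have := LinearMap.congr_fun hnat (eF.symm w)
      simp only [LinearMap.comp_apply, LinearEquiv.coe_coe, LinearEquiv.apply_symm_apply] at this
      rw [this, LinearEquiv.symm_apply_apply]
  exact ⟨(Submodule.quotEquivOfEq _ _ hk.symm).trans (g.quotKerEquivOfSurjective hg)⟩

end Duality

lemma exists_pow_le {I : Ideal R} (hI : Module.length R (R ⧸ I) < ⊤) : ∃ n : ℕ, maximalIdeal R ^ n ≤ I := by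
  by_cases hIt : I = ⊤
  · exact ⟨0, by rw [hIt]; exact le_top⟩
  haveI : Nontrivial (R ⧸ I) := Ideal.Quotient.nontrivial_iff.2 hIt
  haveI : IsLocalRing (R ⧸ I) := IsLocalRing.of_surjective' (Ideal.Quotient.mk I) Ideal.Quotient.mk_surjective
  obtain ⟨_, _⟩ := isFiniteLength_iff_isNoetherian_isArtinian.1 (Module.length_ne_top_iff.1 hI.ne)
  haveI : IsArtinianRing (R ⧸ I) := isArtinian_of_tower R (inferInstance : IsArtinian R (R ⧸ I))
  obtain ⟨n, hn⟩ := IsArtinianRing.isNilpotent_jacobson_bot (R := R ⧸ I)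
  refine ⟨n, ?_⟩
  rw [← Ideal.mk_ker (I := I), ← Ideal.map_eq_bot_iff_le_ker, Ideal.map_pow]
  refine le_bot_iff.1 ((Ideal.pow_right_mono ?_ n).trans hn.le)
  rw [IsLocalRing.jacobson_eq_maximalIdeal (⊥ : Ideal (R ⧸ I)) bot_ne_top]
  exact IsLocalRing.le_maximalIdeal (fun h => by
    have h1 : (1 : R ⧸ I) ∈ (maximalIdeal R).map (Ideal.Quotient.mk I) := h ▸ Submodule.mem_top
    obtain ⟨x, hx, hx1⟩ := (Ideal.mem_map_iff_of_surjective _ Ideal.Quotient.mk_surjective).1 h1
    rw [← map_one (Ideal.Quotient.mk I), Ideal.Quotient.eq] at hx1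
    have : (1 : R) ∈ maximalIdeal R := by
      rw [show (1 : R) = x - (x - 1) by ring]
      exact sub_mem hx (IsLocalRing.le_maximalIdeal hIt hx1)
    exact (mem_maximalIdeal _).1 this isUnit_one)

/-- the dual of `Ext²(R/I, R)` is `R/I` -/
lemma exists_hull (hdim : ringKrullDim R = 2) (I : Ideal R) (hI : Module.length R (R ⧸ I) < ⊤) :
    ∃ (E : Type u) (_ : AddCommGroup E) (_ : Module R E) (f : ResidueField R →ₗ[R] E),
      InjHull.IsInjectiveHull f ∧
      Nonempty ((Abelian.Ext (ModuleCat.of R (R ⧸ I)) (ModuleCat.of R R) 2 →ₗ[R] E) ≃ₗ[R] (R ⧸ I)) := by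
  haveI : LocCoh.IsGorensteinLocalRing R := Groth.Agent.S0342.result R
  have hn : ringKrullDim R = (2 : ℕ) := hdim.trans rfl
  obtain ⟨f, hf⟩ := Groth.Agent.GorenLib.exists_isInjectiveHull_H hn
  obtain ⟨D⟩ := Groth.Agent.GorenLib.exists_dualityData hn hf
  obtain ⟨e⟩ := D.duality 2 (R ⧸ I) le_rfl
  obtain ⟨k, hk⟩ := exists_pow_le hI
  have hpt : LocCoh.IsPowerTorsion (maximalIdeal R) (R ⧸ I) := fun x => ⟨k, fun r hr => by
    obtain ⟨y, rfl⟩ := Submodule.mkQ_surjective I x
    rw [Submodule.mkQ_apply, ← Submodule.Quotient.mk_smul, Submodule.Quotient.mk_eq_zero]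
    exact Ideal.mul_mem_right _ _ (hk hr)⟩
  exact ⟨_, _, _, f, hf, ⟨e.trans (LinearEquiv.ofBijective _
    (Groth.Agent.LocCohLib.zeroMap_bijective (maximalIdeal R) (M := R ⧸ I) hpt))⟩⟩

lemma finrank_ideal {I : Ideal R} (hI0 : I ≠ ⊥) : Module.finrank R I = 1 := by
  haveI := Groth.Agent.RegLoc.isDomain R
  have h1 : Module.finrank R (R ⧸ I) + Module.finrank R I = 1 := by
    rw [Submodule.finrank_quotient_add_finrank, Module.finrank_self]
  have h2 : Module.finrank R (R ⧸ I) = 0 := by
    rw [Module.finrank_eq_zero_iff]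
    intro x
    obtain ⟨c, hc, hc0⟩ := (Submodule.ne_bot_iff I).1 hI0
    refine ⟨c, hc0, ?_⟩
    obtain ⟨y, rfl⟩ := Submodule.mkQ_surjective I x
    rw [Submodule.mkQ_apply, ← Submodule.Quotient.mk_smul, Submodule.Quotient.mk_eq_zero]
    exact Ideal.mul_mem_right _ _ hc
  omega

lemma length_hom_free (F N : Type u) [AddCommGroup F] [Module R F] [Module.Free R F] [Module.Finite R F]
    [AddCommGroup N] [Module R N] :
    Module.length R (F →ₗ[R] N) = Module.finrank R F * Module.length R N := by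
  let b := Module.finBasis R F
  rw [← (b.constr R (M' := N)).length_eq, Module.length_pi, ENat.card_eq_coe_fintype_card, Fintype.card_fin]

theorem length_hom_add (hdim : ringKrullDim R = 2) (I J : Ideal R)
    (hI : Module.length R (R ⧸ I) < ⊤) (hJ : Module.length R (R ⧸ J) < ⊤) :
    Module.length R (↥I →ₗ[R] (R ⧸ J)) + Module.length R (R ⧸ I.colon (J : Set R)) =
      Module.length R (R ⧸ J) + Module.length R (R ⧸ I) := by
  haveI := Groth.Agent.RegLoc.isDomain R
  let N := R ⧸ J
  have hI0 : I ≠ ⊥ := fun h => by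
    obtain ⟨k, hk⟩ := exists_pow_le hI
    rw [h, le_bot_iff] at hk
    have hm : maximalIdeal R = ⊥ := eq_bot_iff.2 fun x hx => by
      have := Ideal.pow_mem_pow hx k
      rw [hk, Submodule.mem_bot] at this
      exact (Submodule.mem_bot R).2 (eq_zero_of_pow_eq_zero this)
    have hf : IsField R := IsLocalRing.isField_iff_maximalIdeal_eq.2 hm
    rw [ringKrullDim_eq_zero_of_isField hf] at hdim
    exact absurd hdim (by decide)
  obtain ⟨a, π, hπ, hKfree⟩ := exists_syzygy hdim I
  haveI := hKfree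
  -- ranks
  have hrk : Module.finrank R (LinearMap.ker π) + 1 = a := by
    have h1 := (LinearMap.ker π).finrank_quotient_add_finrank
    rw [(π.quotKerEquivOfSurjective hπ).finrank_eq, finrank_ideal hI0, Module.finrank_fin_fun] at h1
    omega
  -- the dual of the cokernel
  obtain ⟨E, _, _, f, hf, ⟨eD⟩⟩ := exists_hull hdim I hI
  obtain ⟨eω⟩ := exists_ext_two_equiv π hπ
  obtain ⟨eC⟩ := exists_coker_equiv π N
  let ω := (LinearMap.ker π →ₗ[R] R) ⧸ LinearMap.range (res π R)
  let C := (LinearMap.ker π →ₗ[R] N) ⧸ LinearMap.range (res π N)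
  have hNfl : IsFiniteLength R N := Module.length_ne_top_iff.1 hJ.ne
  have hKN : Module.length R (LinearMap.ker π →ₗ[R] N) ≠ ⊤ := by
    rw [length_hom_free]
    exact WithTop.mul_ne_top (ENat.natCast_ne_top _) hJ.ne
  have hCfl : IsFiniteLength R C := Module.length_ne_top_iff.1 fun h => hKN (top_le_iff.1
    (h.ge.trans (Module.length_le_of_surjective (Submodule.mkQ _) (Submodule.mkQ_surjective _))))
  have hCdual : Module.length R C = Module.length R (N →ₗ[R] (R ⧸ I)) := by
    rw [← Groth.Agent.InjHullLib.length_dual hf hCfl]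
    have e1 : (C →ₗ[R] E) ≃ₗ[R] (N →ₗ[R] (R ⧸ I)) :=
      ((eC.trans (TensorProduct.comm R ω N)).congrLeft (S := R) (M := E)).trans
        ((TensorProduct.lift.equiv (.id R) N ω E).symm.trans
          (((eω.congrLeft (S := R) (M := E)).trans eD).congrRight))
    exact e1.length_eq
  -- the colon ideal
  have hcolon : Module.length R (N →ₗ[R] (R ⧸ I)) + Module.length R (R ⧸ I.colon (J : Set R)) =
      Module.length R (R ⧸ I) := by
    have hle : I ≤ I.colon (J : Set R) := Ideal.le_colon
    let ev : (N →ₗ[R] (R ⧸ I)) →ₗ[R] (R ⧸ I) := LinearMap.applyₗ (Submodule.Quotient.mk (1 : R) : N)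
    refine (Module.length_eq_add_of_exact ev (Submodule.mapQ I (I.colon (J : Set R)) LinearMap.id hle) ?_ ?_ ?_).symm
    · intro g g' h
      refine Submodule.linearMap_qext J (LinearMap.ext_ring ?_)
      exact h
    · exact fun y => by
        obtain ⟨r, rfl⟩ := Submodule.mkQ_surjective _ y
        exact ⟨Submodule.Quotient.mk r, rfl⟩
    · intro y
      obtain ⟨r, rfl⟩ := Submodule.mkQ_surjective I y
      constructor
      · intro h
        rw [Submodule.mkQ_apply, Submodule.mapQ_apply, Submodule.Quotient.mk_eq_zero, LinearMap.id_apply,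
          Submodule.mem_colon] at h
        refine ⟨J.liftQ (LinearMap.toSpanSingleton R _ (Submodule.Quotient.mk r : R ⧸ I)) fun s hs => ?_, ?_⟩
        · rw [LinearMap.mem_ker, LinearMap.toSpanSingleton_apply, ← Submodule.Quotient.mk_smul,
            Submodule.Quotient.mk_eq_zero, smul_eq_mul, mul_comm]
          exact h s hs
        · show (1 : R) • (Submodule.Quotient.mk r : R ⧸ I) = _
          exact one_smul R _
      · rintro ⟨g, hg⟩
        rw [Submodule.mkQ_apply, Submodule.mapQ_apply, Submodule.Quotient.mk_eq_zero, LinearMap.id_apply,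
          Submodule.mem_colon]
        intro s hs
        have h2 : s • g (Submodule.Quotient.mk (1 : R)) = 0 := by
          rw [← map_smul, ← Submodule.Quotient.mk_smul, (Submodule.Quotient.mk_eq_zero J).2 (by simpa using hs),
            map_zero]
        have hg' : g (Submodule.Quotient.mk (1 : R)) = Submodule.Quotient.mk r := hg
        rw [hg', ← Submodule.Quotient.mk_smul, Submodule.Quotient.mk_eq_zero, smul_eq_mul, mul_comm] at h2
        exact h2
  -- the four term sequence
  let α : (↥I →ₗ[R] N) →ₗ[R] ((Fin a → R) →ₗ[R] N) := LinearMap.lcomp R N π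
  have hrange : LinearMap.range α = LinearMap.ker (res π N) := by
    ext g
    constructor
    · rintro ⟨φ, rfl⟩
      refine LinearMap.ext fun k => ?_
      show φ (π k.1) = 0
      rw [show π k.1 = 0 from k.2, map_zero]
    · intro hg
      refine ⟨((LinearMap.ker π).liftQ g fun x hx => LinearMap.congr_fun hg ⟨x, hx⟩).comp
        (π.quotKerEquivOfSurjective hπ).symm.toLinearMap, LinearMap.ext fun x => ?_⟩
      show ((LinearMap.ker π).liftQ g (fun x hx => LinearMap.congr_fun hg ⟨x, hx⟩)) ((π.quotKerEquivOfSurjective hπ).symm (π x)) = g x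
      rw [show π x = π.quotKerEquivOfSurjective hπ (Submodule.Quotient.mk x) from rfl,
        LinearEquiv.symm_apply_apply]
      rfl
  have hA : Module.length R ((Fin a → R) →ₗ[R] N) =
      Module.length R (↥I →ₗ[R] N) + Module.length R (LinearMap.range (res π N)) :=
    Module.length_eq_add_of_exact α (res π N).rangeRestrict
      (fun g g' h => LinearMap.ext fun y => by obtain ⟨x, rfl⟩ := hπ y; exact LinearMap.congr_fun h x)
      (res π N).surjective_rangeRestrict (by
        rw [LinearMap.exact_iff, LinearMap.ker_rangeRestrict, hrange])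
  have hB : Module.length R (LinearMap.ker π →ₗ[R] N) =
      Module.length R (LinearMap.range (res π N)) + Module.length R C :=
    Module.length_eq_add_of_exact (LinearMap.range (res π N)).subtype (LinearMap.range (res π N)).mkQ
      (Submodule.subtype_injective _) (Submodule.mkQ_surjective _) (LinearMap.exact_subtype_mkQ _)
  rw [length_hom_free, Module.finrank_fin_fun] at hA
  rw [length_hom_free, hCdual] at hB
  rw [← hcolon]
  obtain ⟨n, hn⟩ := ENat.ne_top_iff_exists.1 hJ.ne
  have hlt := hI.ne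
  rw [← hcolon] at hlt
  obtain ⟨h1, h2⟩ := WithTop.add_ne_top.1 hlt
  obtain ⟨p, hp⟩ := ENat.ne_top_iff_exists.1 h1
  obtain ⟨q, hq⟩ := ENat.ne_top_iff_exists.1 h2
  change (n : ℕ∞) = Module.length R N at hn
  rw [← hn] at hA hB
  have hA' : Module.length R (↥I →ₗ[R] N) + Module.length R (LinearMap.range (res π N)) ≠ ⊤ := by
    rw [← hA]; exact WithTop.mul_ne_top (ENat.natCast_ne_top _) (ENat.natCast_ne_top _)
  obtain ⟨h3, h4⟩ := WithTop.add_ne_top.1 hA'
  obtain ⟨x, hx⟩ := ENat.ne_top_iff_exists.1 h3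
  obtain ⟨y, hy⟩ := ENat.ne_top_iff_exists.1 h4
  change Module.length R (↥I →ₗ[R] N) + _ = Module.length R N + _
  rw [← hn, ← hp, ← hq, ← hx]
  rw [← hx, ← hy] at hA
  rw [← hy, ← hp] at hB
  norm_cast at hA hB ⊢
  have : (Module.finrank R (LinearMap.ker π) + 1) * n = a * n := congrArg (· * n) hrk
  rw [add_mul, one_mul] at this
  omega

end HomColon29

end
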